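import Mathlib
import Cfsg.Prelude.Def_GeometricClasses

/-!
Subfields of matrix algebras (`Cfsg.Geo.IsFieldSubalgebra`) and their normalisers.
Owner: helper95.
-/
set_option autoImplicit false

namespace Cfsg.Agent.Lib.FieldSub

open Matrix

variable {F : Type*} [Field F] {n : ℕ}

local notation "Mat" => Matrix (Fin n) (Fin n) F

theorem nontrivial_mat (hn : 0 < n) : Nontrivial Mat := by
  haveI : NeZero n := ⟨hn.ne'⟩
  infer_instance

/-- The field structure on a field subalgebra. -/
@[reducible] noncomputable def fieldOf {r : ℕ} (hn : 0 < n) {K : Subalgebra F Mat}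
    (h : Cfsg.Geo.IsFieldSubalgebra r K) : Field K :=
  haveI := nontrivial_mat (F := F) hn
  IsField.toField (R := K)
    { exists_pair_ne := ⟨0, 1, fun he => zero_ne_one (congrArg Subtype.val he)⟩
      mul_comm := fun x y => Subtype.ext (h.comm x x.2 y y.2)
      mul_inv_cancel := fun {x} hx => by
        obtain ⟨y, hy, hxy⟩ := h.inv x x.2 (fun he => hx (Subtype.ext he))
        exact ⟨⟨y, hy⟩, Subtype.ext hxy⟩ }

/-- `mulVec` by a non-zero element of a field subalgebra is injective. -/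
theorem mulVec_eq_zero {r : ℕ} {K : Subalgebra F Mat} (h : Cfsg.Geo.IsFieldSubalgebra r K) {k : Mat}
    (hk : k ∈ K) {v : Fin n → F} (hv : v ≠ 0) (hkv : k *ᵥ v = 0) : k = 0 := by
  by_contra hne
  obtain ⟨y, hy, hky⟩ := h.inv k hk hne
  apply hv
  rw [← one_mulVec v, ← hky, h.comm k hk y hy, ← mulVec_mulVec, hkv, mulVec_zero]

/-- A matrix squaring to zero added to `1` has determinant `1`. -/
theorem det_one_add_of_sq_zero [Fintype F] {N : Mat} (hN : N * N = 0) : (1 + N).det = 1 := by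
  classical
  obtain ⟨p, hp⟩ := CharP.exists F
  haveI : Fact p.Prime := ⟨CharP.char_is_prime F p⟩
  have hpw : ∀ m : ℕ, (1 + N) ^ m = 1 + (m : Mat) * N := by
    intro m
    induction m with
    | zero => simp
    | succ m ih =>
      rw [pow_succ, ih, mul_add, mul_one, add_mul, one_mul, mul_assoc, hN, mul_zero, add_zero,
        Nat.cast_succ, add_one_mul]
      abel
  have h := congrArg Matrix.det (hpw p)
  rw [Matrix.det_pow, show ((p : ℕ) : Mat) = Matrix.scalar (Fin n) (p : F) from (map_natCast _ p).symm,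
    CharP.cast_eq_zero, map_zero, zero_mul, add_zero, Matrix.det_one] at h
  exact frobenius_inj F p (by simpa [frobenius_def] using h)

theorem smul_eq_algebraMap_mulVec (L : Subalgebra F Mat) (c : F) (x : Fin n → F) :
    ((algebraMap F L c : L) : Mat) *ᵥ x = c • x := by
  show (algebraMap F Mat c) *ᵥ x = c • x
  rw [Algebra.algebraMap_eq_smul_one, smul_mulVec, one_mulVec]

/-- **Key construction.** If `L < K` are field subalgebras with `dim K < n`, some element of `SL`
centralises `L` and does not normalise `K`. -/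
theorem exists_moving [Fintype F] {r s : ℕ} {K L : Subalgebra F Mat}
    (hK : Cfsg.Geo.IsFieldSubalgebra r K) (hL : Cfsg.Geo.IsFieldSubalgebra s L)
    (hLK : L ≤ K) {k : Mat} (hk : k ∈ K) (hkL : k ∉ L) (hrn : r < n) :
    ∃ t : GL (Fin n) F, t ∈ Cfsg.Geo.specialLinear (Fin n) F ∧
      (∀ l ∈ L, (t : Mat) * l = l * (t : Mat)) ∧
      t ∉ Cfsg.Geo.subalgebraNormalizer K := by
  classical
  have hn : 0 < n := by omega
  letI := fieldOf hn hL
  letI : Module L (Fin n → F) :=
    Module.compHom _ (((Matrix.toLinAlgEquiv' : Mat ≃ₐ[F] ((Fin n → F) →ₗ[F] Fin n → F)).toAlgHom.comp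
      L.val).toRingHom)
  have smul_def : ∀ (l : L) (x : Fin n → F), l • x = (l : Mat) *ᵥ x := fun l x => rfl
  let w : Fin n → F := Pi.single ⟨0, hn⟩ 1
  have hw : w ≠ 0 := by simp [w]
  let W : Submodule L (Fin n → F) :=
    { carrier := {x | ∃ m ∈ K, m *ᵥ w = x}
      zero_mem' := ⟨0, K.zero_mem, zero_mulVec w⟩
      add_mem' := by
        rintro _ _ ⟨a, ha, rfl⟩ ⟨b, hb, rfl⟩
        exact ⟨a + b, K.add_mem ha hb, add_mulVec a b w⟩
      smul_mem' := by
        rintro l _ ⟨a, ha, rfl⟩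
        exact ⟨l * a, K.mul_mem (hLK l.2) ha, (mulVec_mulVec w (l : Mat) a).symm⟩ }
  obtain ⟨u, hu⟩ : ∃ u, u ∉ W := by
    by_contra hcon
    push Not at hcon
    let ev : K →ₗ[F] (Fin n → F) :=
      { toFun := fun a => (a : Mat) *ᵥ w
        map_add' := fun a b => add_mulVec _ _ w
        map_smul' := fun c a => by simp [smul_mulVec] }
    have hsurj : Function.Surjective ev := fun x => by
      obtain ⟨m, hm, hx⟩ := hcon x
      exact ⟨⟨m, hm⟩, hx⟩
    have := LinearMap.finrank_range_le ev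
    rw [LinearMap.range_eq_top.2 hsurj, finrank_top, Module.finrank_fin_fun] at this
    rw [show Module.finrank F K = r from hK.finrank_eq] at this
    omega
  obtain ⟨φ₀, hφu, hφW⟩ := Submodule.exists_le_ker_of_notMem hu
  let φ : (Fin n → F) →ₗ[L] L := (φ₀ u)⁻¹ • φ₀
  have hφ1 : φ u = 1 := inv_mul_cancel₀ hφu
  have hφ0 : ∀ x ∈ W, φ x = 0 := fun x hx => by
    show (φ₀ u)⁻¹ * φ₀ x = 0
    rw [LinearMap.mem_ker.1 (hφW hx), mul_zero]
  let Nlin : (Fin n → F) →ₗ[F] (Fin n → F) :=
    { toFun := fun x => (φ x : Mat) *ᵥ w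
      map_add' := fun x y => by rw [map_add]; exact add_mulVec _ _ w
      map_smul' := fun c x => by
        rw [RingHom.id_apply, ← smul_eq_algebraMap_mulVec L c x]
        show ((φ ((algebraMap F L c : L) • x) : L) : Mat) *ᵥ w = _
        rw [map_smul]
        show ((algebraMap F L c * φ x : L) : Mat) *ᵥ w = _
        rw [show ((algebraMap F L c * φ x : L) : Mat) = (algebraMap F L c : L).1 * (φ x : Mat) from rfl,
          ← mulVec_mulVec, smul_eq_algebraMap_mulVec] }
  set N : Mat := LinearMap.toMatrix' Nlin with hN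
  have hNv : ∀ x, N *ᵥ x = (φ x : Mat) *ᵥ w := fun x => by
    rw [hN, ← Matrix.toLin'_apply, Matrix.toLin'_toMatrix']
    rfl
  have hwW : ∀ m ∈ K, m *ᵥ w ∈ W := fun m hm => ⟨m, hm, rfl⟩
  have hNW : ∀ x ∈ W, N *ᵥ x = 0 := fun x hx => by rw [hNv, hφ0 x hx]; exact zero_mulVec w
  have hNN : N * N = 0 := by
    refine Matrix.toLin'.injective (LinearMap.ext fun x => ?_)
    rw [Matrix.toLin'_apply, ← mulVec_mulVec, map_zero, LinearMap.zero_apply]
    apply hNW
    rw [hNv]
    exact hwW _ (hLK (φ x).2)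
  let t : GL (Fin n) F := ⟨1 + N, 1 - N, by simp [add_mul, mul_sub, hNN], by simp [sub_mul, mul_add, hNN]⟩
  have htw : ∀ x ∈ W, (1 + N) *ᵥ x = x := fun x hx => by rw [add_mulVec, one_mulVec, hNW x hx, add_zero]
  refine ⟨t, ?_, fun l hl => ?_, fun ht => ?_⟩
  · rw [Cfsg.Geo.specialLinear, MonoidHom.mem_ker]
    exact Units.ext (det_one_add_of_sq_zero hNN)
  · have hcomm : N * l = l * N := by
      refine Matrix.toLin'.injective (LinearMap.ext fun x => ?_)
      rw [Matrix.toLin'_apply, Matrix.toLin'_apply, ← mulVec_mulVec, ← mulVec_mulVec, hNv, hNv]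
      rw [show l *ᵥ x = (⟨l, hl⟩ : L) • x from rfl, map_smul]
      show (l * (φ x : Mat)) *ᵥ w = _
      rw [mulVec_mulVec]
    show (1 + N) * l = l * (1 + N)
    rw [add_mul, mul_add, one_mul, mul_one, hcomm]
  · -- `t` would centralise `k`, forcing `k ∈ L`
    have hk' : (1 + N) * k * (1 - N) ∈ K := (ht k).1 hk
    have h1 : ((1 + N) * k * (1 - N)) *ᵥ w = k *ᵥ w := by
      have hw1 : N *ᵥ w = 0 := hNW w ⟨1, K.one_mem, one_mulVec w⟩
      rw [← mulVec_mulVec, sub_mulVec, one_mulVec, hw1, sub_zero, ← mulVec_mulVec, htw _ (hwW k hk)]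
    have h2 : (1 + N) * k * (1 - N) = k := by
      rw [← sub_eq_zero]
      refine mulVec_eq_zero hK (K.sub_mem hk' hk) hw ?_
      rw [sub_mulVec, h1, sub_self]
    have h3 : (1 + N) * k = k * (1 + N) := by
      conv_rhs => rw [← h2]
      rw [mul_assoc, show (1 - N) * (1 + N) = 1 by simp [sub_mul, mul_add, hNN], mul_one]
    have h4 := congrArg (fun A : Mat => A *ᵥ u) h3
    simp only [← mulVec_mulVec, add_mulVec, one_mulVec, mulVec_add, hNv, hφ1] at h4
    have h5 : (φ (k *ᵥ u) : Mat) *ᵥ w = k *ᵥ w := by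
      simpa using h4
    have h6 : k - (φ (k *ᵥ u) : Mat) = 0 :=
      mulVec_eq_zero hK (K.sub_mem hk (hLK (φ (k *ᵥ u)).2)) hw (by rw [sub_mulVec, h5, sub_self])
    exact hkL (sub_eq_zero.1 h6 ▸ (φ (k *ᵥ u)).2)

/-- The subalgebra of scalars is a field subalgebra. -/
theorem isFieldSubalgebra_bot (hn : 0 < n) :
    Cfsg.Geo.IsFieldSubalgebra 1 (⊥ : Subalgebra F Mat) where
  comm := by
    intro x hx y hy
    obtain ⟨a, rfl⟩ := Algebra.mem_bot.1 hx
    exact Algebra.commutes a y
  inv := by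
    intro x hx hx0
    obtain ⟨a, rfl⟩ := Algebra.mem_bot.1 hx
    refine ⟨algebraMap F Mat a⁻¹, Algebra.mem_bot.2 ⟨_, rfl⟩, ?_⟩
    rw [← map_mul, mul_inv_cancel₀ (by rintro rfl; exact hx0 (map_zero _)), map_one]
  finrank_eq := by
    haveI := nontrivial_mat (F := F) hn
    exact Subalgebra.finrank_bot

/-- A field subalgebra of dimension strictly between `1` and `n` is not normalised by all of `SL`. -/
theorem not_specialLinear_le [Fintype F] {r : ℕ} {K : Subalgebra F Mat}
    (hK : Cfsg.Geo.IsFieldSubalgebra r K) (h1 : 1 < r) (hrn : r < n) :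
    ¬ Cfsg.Geo.specialLinear (Fin n) F ≤ Cfsg.Geo.subalgebraNormalizer K := by
  intro h
  haveI := nontrivial_mat (F := F) (show 0 < n by omega)
  obtain ⟨k, hk, hkL⟩ : ∃ k ∈ K, k ∉ (⊥ : Subalgebra F Mat) := by
    by_contra hcon
    push Not at hcon
    have h' : K = ⊥ := le_bot_iff.1 hcon
    have := hK.finrank_eq
    rw [h', Subalgebra.finrank_bot] at this
    omega
  obtain ⟨t, ht, -, htK⟩ := exists_moving hK (isFieldSubalgebra_bot (by omega)) bot_le hk hkL hrn
  exact htK (h ht)

/-- A composite-degree field subalgebra contains an intermediate one invariant under its normaliser. -/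
theorem exists_intermediate [Fintype F] {r s : ℕ} {K : Subalgebra F Mat} (hn : 0 < n)
    (hK : Cfsg.Geo.IsFieldSubalgebra r K) (hs : 1 < s) (hsr : s < r) (hdvd : s ∣ r) :
    ∃ (d : ℕ) (L : Subalgebra F Mat), Cfsg.Geo.IsFieldSubalgebra d L ∧ 1 < d ∧ d < r ∧ L ≤ K ∧
      Cfsg.Geo.subalgebraNormalizer K ≤ Cfsg.Geo.subalgebraNormalizer L := by
  classical
  haveI := nontrivial_mat (F := F) hn
  letI := fieldOf hn hK
  haveI : Finite K := Finite.of_injective (fun x : K => (x : Mat)) Subtype.val_injective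
  letI := Fintype.ofFinite K
  have hcardK : Fintype.card K = Fintype.card F ^ r := by
    rw [Module.card_eq_pow_finrank (K := F) (V := K), show Module.finrank F K = r from hK.finrank_eq]
  obtain ⟨p, hp⟩ := CharP.exists F
  obtain ⟨f, hpr, hF⟩ := FiniteField.card F p
  haveI := Fact.mk hpr
  haveI : CharP K p := charP_of_injective_algebraMap (algebraMap F K).injective p
  set q := Fintype.card F with hq
  have hq1 : 1 < q := Fintype.one_lt_card
  have hqs : q ^ s = p ^ ((f : ℕ) * s) := by rw [pow_mul, ← hF]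
  let T : Subalgebra F K :=
    { carrier := {x | x ^ q ^ s = x}
      mul_mem' := fun {a b} ha hb => by
        simp only [Set.mem_setOf_eq] at *
        rw [mul_pow, ha, hb]
      one_mem' := one_pow _
      add_mem' := fun {a b} ha hb => by
        simp only [Set.mem_setOf_eq] at *
        rw [hqs, add_pow_char_pow, ← hqs, ha, hb]
      zero_mem' := zero_pow (by positivity)
      algebraMap_mem' := fun c => by
        simp only [Set.mem_setOf_eq]
        rw [← map_pow, FiniteField.pow_card_pow] }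
  let L : Subalgebra F Mat := T.map K.val
  have hLK : L ≤ K := by rintro _ ⟨x, -, rfl⟩; exact x.2
  have hmemL : ∀ x : K, (x : Mat) ∈ L ↔ x ^ q ^ s = x := by
    intro x
    constructor
    · rintro ⟨y, hy, hyx⟩
      rw [← Subtype.ext hyx]
      exact hy
    · exact fun h => ⟨x, h, rfl⟩
  -- a generator of the unit group
  obtain ⟨g, hg⟩ := IsCyclic.exists_ofOrder_eq_natCard (α := Kˣ)
  rw [Nat.card_units, Nat.card_eq_fintype_card, hcardK] at hg
  have hlt : q ^ s < q ^ r := Nat.pow_lt_pow_right hq1 hsr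
  have hql : q < q ^ s := by
    calc q = q ^ 1 := (pow_one q).symm
      _ < q ^ s := Nat.pow_lt_pow_right hq1 hs
  have hgL : ((g : K) : Mat) ∉ L := by
    rw [hmemL]
    intro h
    have : g ^ (q ^ s - 1) = 1 := by
      apply mul_right_cancel (b := g)
      rw [one_mul, ← pow_succ, Nat.sub_add_cancel (by omega)]
      exact Units.ext (by simpa using h)
    have h2 := Nat.le_of_dvd (by omega) (orderOf_dvd_of_pow_eq_one this)
    omega
  obtain ⟨e, he⟩ : q ^ s - 1 ∣ q ^ r - 1 := Nat.pow_sub_one_dvd_pow_sub_one q hdvd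
  have hy : ((g ^ e : Kˣ) : K) ^ q ^ s = ((g ^ e : Kˣ) : K) := by
    have h1 : (g ^ e) ^ (q ^ s) = g ^ e := by
      conv_lhs => rw [show q ^ s = (q ^ s - 1) + 1 by omega, pow_succ, ← pow_mul, mul_comm e, ← he,
        ← hg, pow_orderOf_eq_one, one_mul]
    simpa using congrArg Units.val h1
  have hL1 : L ≠ ⊥ := by
    intro h
    have h1 := (hmemL _).2 hy
    rw [h, Algebra.mem_bot] at h1
    obtain ⟨c, hc⟩ := h1
    have hc' : algebraMap F K c = ((g ^ e : Kˣ) : K) := Subtype.ext hc
    have hc0 : c ≠ 0 := fun h0 => by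
      rw [h0, map_zero] at hc'
      exact Units.ne_zero _ hc'.symm
    have h2 : (g ^ e) ^ (q - 1) = 1 := by
      apply Units.ext
      rw [Units.val_pow_eq_pow_val, Units.val_one, ← hc', ← map_pow,
        FiniteField.pow_card_sub_one_eq_one c hc0, map_one]
    rw [← pow_mul] at h2
    have h3 := orderOf_dvd_of_pow_eq_one h2
    rw [hg, he] at h3
    have he0 : 0 < e := Nat.pos_of_ne_zero fun h0 => by rw [h0, mul_zero] at he; omega
    rw [mul_comm] at h3
    have h4 := Nat.le_of_dvd (by omega) (Nat.dvd_of_mul_dvd_mul_left he0 h3)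
    omega
  have hLfield : Cfsg.Geo.IsFieldSubalgebra (Module.finrank F L) L := by
    refine ⟨fun x hx y hy => hK.comm x (hLK hx) y (hLK hy), fun x hx hx0 => ?_, rfl⟩
    have hxs := (hmemL ⟨x, hLK hx⟩).1 hx
    refine ⟨(((⟨x, hLK hx⟩ : K)⁻¹ : K) : Mat), (hmemL _).2 (by rw [inv_pow, hxs]), ?_⟩
    exact congrArg Subtype.val (mul_inv_cancel₀ (fun h => hx0 (congrArg Subtype.val h) :
      (⟨x, hLK hx⟩ : K) ≠ 0))
  refine ⟨_, L, hLfield, ?_, ?_, hLK, ?_⟩
  · by_contra hcon
    apply hL1
    have h0 : 1 ≤ Module.finrank F L := by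
      rw [← Subalgebra.finrank_bot (F := F) (E := Mat)]
      exact Submodule.finrank_mono (Subalgebra.toSubmodule.monotone (bot_le : (⊥ : Subalgebra F Mat) ≤ L))
    exact Subalgebra.eq_bot_of_finrank_one (by omega)
  · rw [← hK.finrank_eq]
    refine Submodule.finrank_lt_finrank_of_lt (s := L.toSubmodule) (t := K.toSubmodule) ?_
    refine lt_of_le_of_ne hLK fun h => hgL ?_
    have hgK : ((g : K) : Mat) ∈ K.toSubmodule := (g : K).2
    rwa [← h] at hgK
  · intro a ha
    have hfix : ∀ b ∈ Cfsg.Geo.subalgebraNormalizer K, ∀ x ∈ L,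
        (b : Mat) * x * ((b⁻¹ : GL (Fin n) F) : Mat) ∈ L := by
      intro b hb x hx
      have hy : (b : Mat) * x * ((b⁻¹ : GL (Fin n) F) : Mat) ∈ K := (hb x).1 (hLK hx)
      refine (hmemL ⟨_, hy⟩).2 (Subtype.ext ?_)
      rw [SubmonoidClass.coe_pow]
      show ((b : Mat) * x * ((b⁻¹ : GL (Fin n) F) : Mat)) ^ q ^ s = _
      rw [Units.conj_pow]
      have h1 : x ^ q ^ s = x := congrArg Subtype.val ((hmemL ⟨x, hLK hx⟩).1 hx)
      rw [h1]
    intro x
    refine ⟨hfix a ha x, fun h => ?_⟩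
    have h1 := hfix a⁻¹ (inv_mem ha) _ h
    simpa [mul_assoc] using h1

end Cfsg.Agent.Lib.FieldSub
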